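import Groth.Agent.QRegLib.Basic
import Groth.Agent.GenericDepthLib.Loci
import Groth.Agent.AcycLib.Basic
import Groth.Agent.Depth.Basic
import Groth.Agent.SerreLib.Normal

/-!
# Depth of quotients by powers of an ideal generated by a regular sequence
-/

set_option autoImplicit false
set_option backward.isDefEq.respectTransparency false
set_option linter.style.haveILetI false

universe u

open IsLocalRing RingTheory.Sequence
open scoped Pointwise

noncomputable section

namespace Groth.Agent.NormalPowLib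

variable {R : Type u} [CommRing R]

theorem weaklyRegular_pair_iff (I : Ideal R) (r s : R) :
    IsWeaklyRegular (R ⧸ I) [r, s] ↔
      (∀ y, r * y ∈ I → y ∈ I) ∧ ∀ y, s * y ∈ Ideal.span {r} ⊔ I → y ∈ Ideal.span {r} ⊔ I := by
  rw [isWeaklyRegular_cons_iff, isWeaklyRegular_singleton_iff]
  have hmem : ∀ y : R, (Submodule.Quotient.mk y : R ⧸ I) ∈ r • (⊤ : Submodule R (R ⧸ I)) ↔
      y ∈ Ideal.span {r} ⊔ I := fun y => by
    rw [Submodule.mem_smul_pointwise_iff_exists, Submodule.mem_sup]
    constructor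
    · rintro ⟨z, -, hz⟩
      obtain ⟨a, rfl⟩ := Submodule.Quotient.mk_surjective _ z
      rw [← Submodule.Quotient.mk_smul, Submodule.Quotient.eq] at hz
      exact ⟨r * a, Ideal.mem_span_singleton'.2 ⟨a, mul_comm a r⟩, y - r * a, by
        simpa using I.neg_mem hz, add_sub_cancel _ _⟩
    · rintro ⟨u, hu, v, hv, rfl⟩
      obtain ⟨a, rfl⟩ := Ideal.mem_span_singleton'.1 hu
      refine ⟨Submodule.Quotient.mk a, trivial, ?_⟩
      rw [← Submodule.Quotient.mk_smul, Submodule.Quotient.eq]
      simpa [mul_comm r a] using I.neg_mem hv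
  refine and_congr ?_ ?_
  · rw [isSMulRegular_quotient_iff_mem_of_smul_mem]
    rfl
  · rw [isSMulRegular_quotient_iff_mem_of_smul_mem]
    refine ⟨fun h y hy => (hmem y).1 (h _ ?_), fun h z hz => ?_⟩
    · rw [← Submodule.Quotient.mk_smul]
      exact (hmem _).2 hy
    · obtain ⟨y, rfl⟩ := Submodule.Quotient.mk_surjective _ z
      rw [← Submodule.Quotient.mk_smul] at hz
      exact (hmem y).2 (h y ((hmem _).1 hz))

/-- A regular pair on the quotient by a quasi-regular ideal is regular on the quotients by its powers. -/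
theorem isWeaklyRegular_pow {c : ℕ} (g : Fin c → R) (hg : CAlgX.IsQuasiRegular g) (r s : R)
    (h : IsWeaklyRegular (R ⧸ Ideal.span (Set.range g)) [r, s]) (m : ℕ) :
    IsWeaklyRegular (R ⧸ Ideal.span (Set.range g) ^ m) [r, s] := by
  rw [weaklyRegular_pair_iff] at h ⊢
  obtain ⟨hr, hs⟩ := h
  have hq : QRegLib.QOn g (Set.univ : Set (Fin c)) := fun n P hP _ hv d => by
    rw [Set.image_univ] at hv ⊢
    exact hg n P hP hv d
  have hr' : ∀ (j : ℕ) y, r * y ∈ Ideal.span (Set.range g) ^ j → y ∈ Ideal.span (Set.range g) ^ j := by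
    simpa [Set.image_univ] using fun j => QRegLib.mem_pow_of_mul_mem_pow g hq (x := r) (by simpa [Set.image_univ] using hr) j
  refine ⟨hr' m, ?_⟩
  induction m with
  | zero => intro y _; simp
  | succ m ih =>
    intro y hy
    set J := Ideal.span (Set.range g) with hJ
    have hy' : y ∈ Ideal.span {r} ⊔ J ^ m :=
      ih y ((sup_le_sup_left (Ideal.pow_le_pow_right (Nat.le_succ m)) _ : Ideal.span {r} ⊔ J ^ (m + 1) ≤ Ideal.span {r} ⊔ J ^ m) hy)
    obtain ⟨u, hu, z, hz, rfl⟩ := Submodule.mem_sup.1 hy'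
    obtain ⟨a, rfl⟩ := Ideal.mem_span_singleton'.1 hu
    obtain ⟨G, hG, -, rfl⟩ := QRegLib.exists_poly_of_mem_pow g Set.univ m z (by rwa [Set.image_univ])
    obtain ⟨w, hw, v, hv, hwv⟩ := Submodule.mem_sup.1 hy
    obtain ⟨b, rfl⟩ := Ideal.mem_span_singleton'.1 hw
    have e : s * MvPolynomial.eval g G = r * (b - s * a) + v := by linear_combination -hwv
    have hbm : r * (b - s * a) ∈ J ^ m := by
      rw [show r * (b - s * a) = s * MvPolynomial.eval g G - v from by rw [e]; ring]
      exact sub_mem (Ideal.mul_mem_left _ _ hz) (Ideal.pow_le_pow_right (Nat.le_succ m) hv)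
    obtain ⟨H, hH, -, hHe⟩ := QRegLib.exists_poly_of_mem_pow g Set.univ m (b - s * a)
      (by rw [Set.image_univ]; exact hr' m _ hbm)
    have hcoef := hg m (MvPolynomial.C s * G - MvPolynomial.C r * H) ((hG.C_mul s).sub (hH.C_mul r)) (by
      rw [map_sub, map_mul, map_mul, MvPolynomial.eval_C, MvPolynomial.eval_C, hHe, e, add_sub_cancel_left]
      exact hv)
    have hGc : ∀ d, G.coeff d ∈ Ideal.span {r} ⊔ J := fun d => by
      refine hs _ ?_
      have := hcoef d
      rw [MvPolynomial.coeff_sub, MvPolynomial.coeff_C_mul, MvPolynomial.coeff_C_mul] at this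
      have e' : s * G.coeff d = r * H.coeff d + (s * G.coeff d - r * H.coeff d) := by ring
      rw [e']
      exact add_mem (Submodule.mem_sup_left (Ideal.mem_span_singleton'.2 ⟨_, mul_comm _ _⟩))
        (Submodule.mem_sup_right this)
    have hG' := QRegLib.eval_mem_mul_pow g _ Set.univ m G hG (fun d _ => Set.subset_univ _) hGc
    rw [Set.image_univ, ← hJ, Submodule.sup_mul, ← pow_succ'] at hG'
    exact add_mem (Submodule.mem_sup_left (Ideal.mem_span_singleton'.2 ⟨a, rfl⟩))
      (sup_le_sup_right (Ideal.mul_le_left : Ideal.span {r} * J ^ m ≤ Ideal.span {r}) _ hG')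

/-- Normality of the quotient gives depth two to all the quotients by powers. -/
theorem two_le_depth_quot_pow [IsLocalRing R] [IsNoetherianRing R] (rs : List R) (hrs : IsWeaklyRegular R rs)
    (J : Ideal R) (hJ : Ideal.ofList rs = J) [IsLocalRing (R ⧸ J)] [IsDomain (R ⧸ J)] [IsIntegrallyClosed (R ⧸ J)]
    (hdim : 1 < ringKrullDim (R ⧸ J)) (m : ℕ) : (2 : ℕ∞) ≤ LocCoh.depth R (R ⧸ J ^ m) := by
  have hd : (2 : ℕ∞) ≤ LocCoh.depth R (R ⧸ J) :=
    le_of_le_of_eq (SerreLib.two_le_depth_of_normal hdim) (GenericDepthLib.depth_quot_eq J).symm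
  rcases subsingleton_or_nontrivial (R ⧸ J ^ m) with h | h
  · rw [AcycLib.depth_subsingleton]; exact le_top
  haveI : Nontrivial (R ⧸ J) := inferInstance
  rw [← Nat.cast_ofNat, LocCoh.depth, Depth.le_idealDepth_iff (AcycLib.smul_top_ne_top (R := R))] at hd ⊢
  obtain ⟨l, hl, hmem, hreg⟩ := hd
  obtain ⟨r, s, rfl⟩ := List.length_eq_two.1 hl
  refine ⟨[r, s], hl, hmem, ?_⟩
  have hg : Ideal.span (Set.range fun i : Fin rs.length => rs[i]) = J := by
    rw [← hJ, Ideal.ofList]
    congr 1
    ext x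
    simp [List.mem_iff_getElem, Fin.exists_iff]
  have hq := QRegLib.isQuasiRegular_of_isWeaklyRegular (fun i : Fin rs.length => rs[i])
    (by rw [show List.ofFn (fun i : Fin rs.length => rs[i]) = rs from List.ofFn_getElem]; exact hrs)
  have := isWeaklyRegular_pow _ hq r s (by rw [hg]; exact hreg) m
  rwa [hg] at this

end Groth.Agent.NormalPowLib
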